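import Cfsg.Agent.Lib.Sp.Simple
import Cfsg.Agent.Lib.CharBound.Basic
import Cfsg.Agent.Lib.KnownSimple.ModulePermOrbits
import Cfsg.Agent.Lib.KnownSimple.SLMinIndex

set_option autoImplicit false
set_option linter.unusedSectionVars false
set_option linter.style.haveILetI false

/-! Non-trivial representations of `Sp_2n(q)`, `q` odd, have degree at least `(q^n - 1)/2`. -/

namespace CfsgLib.SpWeilDeg

open Matrix CfsgLib.KnownSimple.ModulePerm

variable {F : Type*} [Field F] [Fintype F] [DecidableEq F] {n : ℕ}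

/-- `[[1, M + Mᵀ], [0, 1]]` -/
def siegel (M : Matrix (Fin n) (Fin n) F) : Matrix.symplecticGroup (Fin n) F :=
  ⟨fromBlocks 1 (M + Mᵀ) 0 1, by
    rw [SymplecticGroup.mem_iff, Matrix.J, fromBlocks_transpose, fromBlocks_multiply, fromBlocks_multiply]
    simp [add_comm]
    abel⟩

theorem siegel_mul (M N : Matrix (Fin n) (Fin n) F) : siegel M * siegel N = siegel (M + N) := by
  apply Subtype.ext
  show fromBlocks _ _ _ _ * fromBlocks _ _ _ _ = fromBlocks _ _ _ _
  rw [fromBlocks_multiply, Matrix.transpose_add]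
  congr 1 <;> simp
  abel

theorem siegel_zero : siegel (0 : Matrix (Fin n) (Fin n) F) = 1 := by
  apply Subtype.ext
  show fromBlocks _ _ _ _ = _
  simp [fromBlocks_one]

theorem siegel_transpose (M : Matrix (Fin n) (Fin n) F) : siegel Mᵀ = siegel M := by
  apply Subtype.ext
  show fromBlocks _ _ _ _ = fromBlocks _ _ _ _
  rw [transpose_transpose, add_comm]

/-- `[[A, 0], [0, A⁻ᵀ]]` -/
noncomputable def levi (A : Matrix.GeneralLinearGroup (Fin n) F) : Matrix.symplecticGroup (Fin n) F :=
  ⟨fromBlocks (A : Matrix (Fin n) (Fin n) F) 0 0 ((A⁻¹ : Matrix.GeneralLinearGroup (Fin n) F) : Matrix (Fin n) (Fin n) F)ᵀ, by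
    rw [SymplecticGroup.mem_iff, Matrix.J, fromBlocks_transpose, fromBlocks_multiply, fromBlocks_multiply]
    simp [← Matrix.transpose_mul]⟩

theorem siegel_mul_levi (A : Matrix.GeneralLinearGroup (Fin n) F) (M : Matrix (Fin n) (Fin n) F) :
    siegel M * levi A = levi A * siegel (((A⁻¹ : Matrix.GeneralLinearGroup (Fin n) F) : Matrix (Fin n) (Fin n) F) * M *
      ((A⁻¹ : Matrix.GeneralLinearGroup (Fin n) F) : Matrix (Fin n) (Fin n) F)ᵀ) := by
  apply Subtype.ext
  show fromBlocks _ _ _ _ * fromBlocks _ _ _ _ = fromBlocks _ _ _ _ * fromBlocks _ _ _ _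
  rw [fromBlocks_multiply, fromBlocks_multiply]
  simp only [Matrix.one_mul, Matrix.mul_zero, add_zero, zero_add, Matrix.zero_mul, Matrix.mul_one]
  congr 1
  rw [transpose_mul, transpose_mul, transpose_transpose]
  simp only [mul_add, add_mul, ← mul_assoc, ← Units.val_mul, mul_inv_cancel, Units.val_one, one_mul]

/-- Values of the quadratic form of `B`. -/
def Represents (B : Matrix (Fin n) (Fin n) F) (b : F) : Prop := ∃ v, v ⬝ᵥ (B *ᵥ v) = b

theorem symm_dot {B : Matrix (Fin n) (Fin n) F} (hB : Bᵀ = B) (u v : Fin n → F) :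
    u ⬝ᵥ (B *ᵥ v) = v ⬝ᵥ (B *ᵥ u) := by
  rw [dotProduct_mulVec, ← mulVec_transpose, hB, dotProduct_comm]

theorem two_ne (hodd : Odd (Fintype.card F)) : (2 : F) ≠ 0 :=
  Ring.two_ne_zero fun h => by
    have := FiniteField.even_card_iff_char_two.mp h
    rcases hodd with ⟨k, hk⟩
    omega

theorem exists_anisotropic (h2 : (2 : F) ≠ 0) {B : Matrix (Fin n) (Fin n) F} (hB : Bᵀ = B) (hB0 : B ≠ 0) :
    ∃ v, v ⬝ᵥ (B *ᵥ v) ≠ 0 := by
  by_contra hcon
  push Not at hcon
  refine hB0 (Matrix.ext fun i j => ?_)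
  have e := hcon (Pi.single i 1 + Pi.single j 1)
  rw [mulVec_add, add_dotProduct, dotProduct_add, dotProduct_add, hcon, hcon, zero_add, add_zero,
    symm_dot hB (Pi.single j 1) (Pi.single i 1), ← two_mul, mul_eq_zero] at e
  have := e.resolve_left h2
  rwa [mulVec_single_one, single_one_dotProduct, Matrix.col_apply] at this

theorem exists_gl_mulVec (hn : 2 ≤ n) {a b : Fin n → F} (ha : a ≠ 0) (hb : b ≠ 0) :
    ∃ A : Matrix.GeneralLinearGroup (Fin n) F, (A : Matrix (Fin n) (Fin n) F) *ᵥ a = b := by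
  obtain ⟨g, hg⟩ := sl_transitive (F := F) (κ := Fin n) (by simpa using hn) ha hb
  exact ⟨Matrix.SpecialLinearGroup.toGL g, hg⟩

/-- The congruence orbit of `B`. -/
def orbit (B : Matrix (Fin n) (Fin n) F) : Set (Matrix (Fin n) (Fin n) F) :=
  {C | ∃ A : Matrix.GeneralLinearGroup (Fin n) F, C = (A : Matrix (Fin n) (Fin n) F)ᵀ * B * A}

theorem orbit_large (hn : 2 ≤ n) (hodd : Odd (Fintype.card F)) {B : Matrix (Fin n) (Fin n) F} (hB : Bᵀ = B)
    (hB0 : B ≠ 0) : Fintype.card F ^ n - 1 ≤ 2 * Nat.card (orbit B) := by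
  classical
  have h2 : (2 : F) ≠ 0 := two_ne hodd
  obtain ⟨v, hv⟩ := exists_anisotropic h2 hB hB0
  set a := v ⬝ᵥ (B *ᵥ v) with ha
  set w := B *ᵥ v with hw
  set D := B - a⁻¹ • vecMulVec w w with hD
  by_cases hD0 : D = 0
  · -- rank one
    have hBw : B = a⁻¹ • vecMulVec w w := sub_eq_zero.mp hD0
    have hw0 : w ≠ 0 := fun h => hv (by rw [ha, h, dotProduct_zero])
    have hmem : ∀ y : {y : Fin n → F // y ≠ 0}, a⁻¹ • vecMulVec y.1 y.1 ∈ orbit B := by
      intro y
      obtain ⟨g, hg⟩ := sl_transitive (F := F) (κ := Fin n) (by simpa using hn) hw0 y.2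
      refine ⟨Matrix.SpecialLinearGroup.toGL g.transpose, ?_⟩
      show _ = ((g.transpose : Matrix (Fin n) (Fin n) F))ᵀ * B * (g.transpose : Matrix (Fin n) (Fin n) F)
      rw [Matrix.SpecialLinearGroup.coe_transpose, transpose_transpose, hBw, mul_smul_comm, smul_mul_assoc,
        mul_vecMulVec, hg, vecMulVec_mul, vecMul_transpose, hg]
    let Φ : {y : Fin n → F // y ≠ 0} → orbit B := fun y => ⟨_, hmem y⟩
    have hfib : ∀ C : orbit B, (Finset.univ.filter fun y => Φ y = C).card ≤ 2 := by
      intro C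
      rcases (Finset.univ.filter fun y => Φ y = C).eq_empty_or_nonempty with h | ⟨y₀, hy₀⟩
      · simp [h]
      have hneg : -y₀.1 ≠ 0 := neg_ne_zero.mpr y₀.2
      refine le_trans (Finset.card_le_card ?_) (Finset.card_le_two (a := y₀) (b := ⟨_, hneg⟩))
      intro y hy
      rw [Finset.mem_filter] at hy hy₀
      have e : vecMulVec y.1 y.1 = vecMulVec y₀.1 y₀.1 :=
        smul_right_injective _ (inv_ne_zero hv) (congrArg Subtype.val (hy.2.trans hy₀.2.symm))
      obtain ⟨i, hi⟩ := Function.ne_iff.mp y₀.2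
      have eii : y.1 i * y.1 i = y₀.1 i * y₀.1 i := congrFun (congrFun e i) i
      have eij : ∀ j, y.1 i * y.1 j = y₀.1 i * y₀.1 j := fun j => congrFun (congrFun e i) j
      rcases mul_self_eq_mul_self_iff.mp eii with h | h
      · refine Finset.mem_insert.mpr (Or.inl (Subtype.ext (funext fun j => ?_)))
        have := eij j
        rw [h] at this
        exact mul_left_cancel₀ hi this
      · refine Finset.mem_insert_of_mem (Finset.mem_singleton.mpr (Subtype.ext (funext fun j => ?_)))
        have := eij j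
        rw [h] at this
        show y.1 j = -y₀.1 j
        refine mul_left_cancel₀ (neg_ne_zero.mpr hi) (this.trans ?_)
        ring
    have h := Finset.card_le_mul_card_image (s := (Finset.univ : Finset {y : Fin n → F // y ≠ 0})) (f := Φ) 2
      (fun C _ => hfib C)
    rw [Finset.card_univ, Fintype.card_subtype_compl, Fintype.card_subtype_eq, Fintype.card_fun,
      Fintype.card_fin] at h
    refine h.trans (Nat.mul_le_mul_left _ ?_)
    rw [Nat.card_eq_fintype_card]
    exact Finset.card_le_univ _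
  · -- all non-zero values are represented
    have hDs : Dᵀ = D := by rw [hD, transpose_sub, transpose_smul, hB, transpose_vecMulVec]
    obtain ⟨u, hu⟩ := exists_anisotropic h2 hDs hD0
    set t := (u ⬝ᵥ w) / a with ht
    set u' := u - t • v with hu'
    have hu'v : u' ⬝ᵥ w = 0 := by
      rw [hu', sub_dotProduct, smul_dotProduct, ← ha, ht, smul_eq_mul, div_mul_cancel₀ _ hv, sub_self]
    have hd : u' ⬝ᵥ (B *ᵥ u') = u ⬝ᵥ (D *ᵥ u) := by
      rw [hD, sub_mulVec, smul_mulVec, vecMulVec_mulVec, hu']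
      simp only [mulVec_sub, mulVec_smul, sub_dotProduct, dotProduct_sub, smul_dotProduct, dotProduct_smul,
        smul_eq_mul, MulOpposite.smul_eq_mul_unop, MulOpposite.unop_op, ← hw, ← ha]
      rw [symm_dot hB v u, ← hw, dotProduct_comm w u, ht]
      field_simp
      ring
    set d := u' ⬝ᵥ (B *ᵥ u') with hd'
    have hd0 : d ≠ 0 := by rw [hd]; exact hu
    have hall : ∀ b : F, ∃ z, z ⬝ᵥ (B *ᵥ z) = b := by
      intro b
      open Polynomial in
      obtain ⟨x, y, hxy⟩ := FiniteField.exists_root_sum_quadratic (R := F) (f := C a * X ^ 2) (g := C d * X ^ 2 - C b)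
        (degree_C_mul_X_pow 2 hv) (by
          rw [Polynomial.degree_sub_C (by rw [degree_C_mul_X_pow 2 hd0]; norm_num), degree_C_mul_X_pow 2 hd0]; norm_num)
        (by rcases hodd with ⟨k, hk⟩; omega)
      simp only [Polynomial.eval_mul, Polynomial.eval_C, Polynomial.eval_pow, Polynomial.eval_X,
        Polynomial.eval_sub] at hxy
      refine ⟨x • v + y • u', ?_⟩
      simp only [mulVec_add, mulVec_smul, add_dotProduct, dotProduct_add, smul_dotProduct, dotProduct_smul,
        smul_eq_mul, ← hw, ← ha, ← hd']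
      rw [symm_dot hB v u', ← hw, hu'v]
      linear_combination hxy
    let z : Fin n := ⟨0, by omega⟩
    let Φ : orbit B → (Fin n → F) := fun C => C.1 *ᵥ Pi.single z 1
    have hsurj : ∀ c : {c : Fin n → F // c z ≠ 0}, ∃ C, Φ C = c.1 := by
      rintro ⟨c, hc⟩
      obtain ⟨v', hv'⟩ := hall (c z)
      have hv'0 : v' ≠ 0 := fun h => hc (by rw [← hv', h, zero_dotProduct])
      obtain ⟨Q, hQ⟩ := exists_gl_mulVec hn (a := Pi.single z 1) (by simp) hv'0
      set w' := (Q : Matrix (Fin n) (Fin n) F)ᵀ *ᵥ (B *ᵥ v') with hw'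
      have hw'z : w' z = c z := by
        rw [← hv', show v' ⬝ᵥ (B *ᵥ v') = ((Q : Matrix (Fin n) (Fin n) F) *ᵥ Pi.single z 1) ⬝ᵥ (B *ᵥ v') by rw [hQ],
          dotProduct_comm, dotProduct_mulVec, ← mulVec_transpose, ← hw', dotProduct_single, mul_one]
      set x := (c z)⁻¹ • (c - w') with hx
      have hxz : x ⬝ᵥ (Pi.single z 1 : Fin n → F) = 0 := by
        rw [dotProduct_single, mul_one, hx, Pi.smul_apply, Pi.sub_apply, hw'z, sub_self, smul_zero]
      set R := Matrix.SpecialLinearGroup.toGL (tv (Pi.single z 1) x hxz) with hR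
      refine ⟨⟨_, ⟨Q * R, rfl⟩⟩, ?_⟩
      have hR1 : (R : Matrix (Fin n) (Fin n) F) *ᵥ Pi.single z 1 = Pi.single z 1 := by
        show (tv (Pi.single z 1) x hxz : Matrix (Fin n) (Fin n) F) *ᵥ _ = _
        rw [tv_mulVec, hxz, zero_smul, add_zero]
      show (((Q * R : Matrix.GeneralLinearGroup (Fin n) F) : Matrix (Fin n) (Fin n) F)ᵀ * B *
        ((Q * R : Matrix.GeneralLinearGroup (Fin n) F) : Matrix (Fin n) (Fin n) F)) *ᵥ Pi.single z 1 = c
      rw [Units.val_mul, transpose_mul]
      simp only [← mulVec_mulVec]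
      rw [hR1, hQ, ← hw']
      show (tv (Pi.single z 1) x hxz : Matrix (Fin n) (Fin n) F)ᵀ *ᵥ w' = c
      rw [tv_transpose_mulVec, single_one_dotProduct, hw'z, hx, smul_smul, mul_inv_cancel₀ hc, one_smul,
        add_sub_cancel]
    choose s hs using hsurj
    have hinj : Function.Injective s := fun c₁ c₂ h => Subtype.ext (by rw [← hs c₁, ← hs c₂, h])
    have h := Nat.card_le_card_of_injective s hinj
    have e : {c : Fin n → F // c z ≠ 0} ≃ {t : F // t ≠ 0} × ({j : Fin n // j ≠ z} → F) :=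
      { toFun := fun c => (⟨c.1 z, c.2⟩, fun j => c.1 j.1)
        invFun := fun p => ⟨fun j => if hj : j = z then p.1.1 else p.2 ⟨j, hj⟩, by simpa using p.1.2⟩
        left_inv := fun c => Subtype.ext (funext fun j => by
          show (if hj : j = z then c.1 z else c.1 j) = c.1 j
          split_ifs with hj
          · rw [hj]
          · rfl)
        right_inv := fun p => Prod.ext (Subtype.ext (by simp)) (funext fun j => by simp [j.2]) }
    rw [Nat.card_congr e, Nat.card_prod, Nat.card_eq_fintype_card, Nat.card_fun, Nat.card_eq_fintype_card,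
      Nat.card_eq_fintype_card (α := {j : Fin n // j ≠ z}), Fintype.card_subtype_compl, Fintype.card_subtype_eq,
      Fintype.card_subtype_compl, Fintype.card_subtype_eq, Fintype.card_fin] at h
    refine le_trans ?_ (Nat.mul_le_mul_left 2 h)
    obtain ⟨k, rfl⟩ : ∃ k, n = k + 1 := ⟨n - 1, by omega⟩
    rw [Nat.add_sub_cancel, pow_succ]
    have hq : 2 ≤ Fintype.card F := Fintype.one_lt_card
    obtain ⟨r, hr⟩ : ∃ r, Fintype.card F = r + 2 := ⟨Fintype.card F - 2, by omega⟩
    rw [hr, show r + 2 - 1 = r + 1 by omega]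
    have : (r + 2) ^ k * (r + 2) ≤ 2 * ((r + 1) * (r + 2) ^ k) := by nlinarith [Nat.zero_le ((r + 2) ^ k * r)]
    omega

/-- The bound. -/
theorem degree_ge (hn : 2 ≤ n) (hodd : Odd (Fintype.card F)) {V : Type*} [AddCommGroup V] [Module ℂ V]
    [FiniteDimensional ℂ V] (ρ : Representation ℂ (Matrix.symplecticGroup (Fin n) F) V) (hρ : ∃ g, ρ g ≠ 1) :
    (Fintype.card F ^ n - 1) / 2 ≤ Module.finrank ℂ V := by
  classical
  have h2 : (2 : F) ≠ 0 := two_ne hodd
  have hq3 : 3 ≤ Fintype.card F := by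
    have : 2 ≤ Fintype.card F := Fintype.one_lt_card
    rcases hodd with ⟨k, hk⟩; omega
  have hperf := CfsgLib.Sp.commutator_eq_top_of_card (m := n) (F := F) rfl (by
    rcases Nat.lt_or_ge (Fintype.card F) 4 with h | h
    · exact Or.inr (Or.inl ⟨by omega, hn⟩)
    · exact Or.inl h)
  let z : Fin n := ⟨0, by omega⟩
  let M₀ : Matrix (Fin n) (Fin n) F := Matrix.single z z 1
  let N : Subgroup (Matrix.symplecticGroup (Fin n) F) := ρ.toHomUnits.ker
  have hNmem : ∀ g, g ∈ N ↔ ρ g = 1 := fun g => Units.ext_iff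
  have hM₀ : ρ (siegel M₀) ≠ 1 := by
    intro h
    rcases CfsgLib.Sp.normal_le_center_or_eq_top hperf N with hc | hc
    · let Jm : Matrix.symplecticGroup (Fin n) F := ⟨Matrix.J (Fin n) F, SymplecticGroup.J_mem _ _⟩
      have := congrArg (fun g : Matrix.symplecticGroup (Fin n) F =>
        (g : Matrix (Fin n ⊕ Fin n) (Fin n ⊕ Fin n) F) (Sum.inl z) (Sum.inl z))
        (Subgroup.mem_center_iff.mp (hc ((hNmem _).mpr h)) Jm)
      simp [siegel, Jm, M₀, Matrix.J, Matrix.fromBlocks_multiply, one_add_one_eq_two] at this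
      exact h2 this.symm
    · obtain ⟨g, hg⟩ := hρ
      exact hg ((hNmem g).mp (hc ▸ Subgroup.mem_top g))
  let κ := Fin n × Fin n
  let toM : (κ → F) → Matrix (Fin n) (Fin n) F := fun m => Matrix.of fun i j => m (i, j)
  let f : (κ → F) → V →ₗ[ℂ] V := fun m => ρ (siegel (toM m))
  have htoM : ∀ a b, toM (a + b) = toM a + toM b := fun a b => rfl
  have hf : ∀ a b, f a * f b = f (a + b) := fun a b => by simp only [f, ← map_mul, siegel_mul, htoM]
  have hf0 : f 0 = 1 := by
    simp only [f, show toM (0 : κ → F) = 0 from rfl, siegel_zero, map_one]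
  haveI : Fact (ringChar F).Prime := by
    obtain ⟨k, hp, -⟩ := FiniteField.card F (ringChar F)
    exact ⟨hp⟩
  set m₀ : κ → F := fun p => M₀ p.1 p.2 with hm₀
  have hfp : f m₀ ^ ringChar F = 1 := by
    have : ∀ k : ℕ, f m₀ ^ k = f (k • m₀) := fun k => by
      induction k with
      | zero => simp [hf0]
      | succ k ih => rw [pow_succ, ih, hf, succ_nsmul]
    rw [this, show ringChar F • m₀ = 0 from funext fun j => by simp, hf0]
  obtain ⟨v, χ₀, hv0, hχm, hχ⟩ := CfsgLib.CharBound.exists_nontrivial_eigen f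
    (fun a b => by rw [Commute, SemiconjBy, hf, hf, add_comm]) m₀
    (N := ringChar F) (Nat.cast_ne_zero.mpr (Fact.out : (ringChar F).Prime).ne_zero) hfp hM₀
  have inj : ∀ {s t : ℂ}, s • v = t • v → s = t := fun h => smul_left_injective ℂ hv0 h
  let χ : AddChar (κ → F) ℂ := ⟨χ₀, inj (by rw [← hχ, hf0, Module.End.one_apply, one_smul]),
    fun a b => inj (by rw [← hχ, ← hf, Module.End.mul_apply, hχ b, map_smul, hχ a, smul_smul, mul_comm])⟩
  obtain ⟨bv, hbv⟩ := psiChar_bijective.surjective χ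
  let B : Matrix (Fin n) (Fin n) F := Matrix.of fun i j => bv (i, j)
  have hχB : ∀ m, χ₀ m = chi F ((Bᵀ * toM m).trace) := fun m => by
    show χ m = _
    rw [← hbv, psiChar_apply]
    congr 1
    simp only [dotProduct, Matrix.trace, Matrix.diag, Matrix.mul_apply, transpose_apply, B, toM, of_apply]
    rw [Fintype.sum_prod_type, Finset.sum_comm]
  have hB0 : B ≠ 0 := fun h => hχm (by
    rw [hχB, h, transpose_zero, Matrix.zero_mul, trace_zero, AddChar.map_zero_eq_one])
  have hBs : Bᵀ = B := by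
    have : psiChar (fun p : κ => bv (p.2, p.1)) = psiChar bv := by
      refine DFunLike.ext _ _ fun m => ?_
      have h1 : χ₀ m = χ₀ (fun p => m (p.2, p.1)) := inj (by
        rw [← hχ, ← hχ]
        show ρ _ v = ρ _ v
        rw [← siegel_transpose (toM m)]
        rfl)
      rw [psiChar_apply]
      calc chi F ((fun p : κ => bv (p.2, p.1)) ⬝ᵥ m) = chi F (bv ⬝ᵥ fun p => m (p.2, p.1)) := by
            congr 1
            exact Fintype.sum_equiv (Equiv.prodComm _ _) _ _ fun p => rfl
        _ = χ (fun p => m (p.2, p.1)) := by rw [← hbv, psiChar_apply]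
        _ = χ m := h1.symm
        _ = psiChar bv m := by rw [hbv]
    exact Matrix.ext fun i j => congrFun (psiChar_bijective.injective this) (i, j)
  have hO := orbit_large hn hodd hBs hB0
  haveI : Fintype (orbit B) := Fintype.ofFinite _
  choose A hA using fun C : orbit B => C.2
  have hinj : Function.Injective fun (C : orbit B) (m : κ → F) => psiChar (fun p : κ => C.1 p.1 p.2) m := by
    intro C₁ C₂ h
    have h' := psiChar_bijective.injective (DFunLike.ext _ _ fun m => congrFun h m)
    exact Subtype.ext (Matrix.ext fun i j => congrFun h' (i, j))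
  have hcard := CfsgLib.CharBound.card_le_finrank f _ hinj
    (fun C => ρ (levi ((A C)⁻¹)) v)
    (fun C h0 => hv0 (by
      have := congrArg (ρ (levi ((A C)⁻¹))⁻¹) h0
      rwa [← Module.End.mul_apply, ← map_mul, inv_mul_cancel, map_one, map_zero] at this))
    (fun C m => by
      show ρ (siegel (toM m)) (ρ (levi ((A C)⁻¹)) v) = _
      rw [← Module.End.mul_apply, ← map_mul, siegel_mul_levi, map_mul, Module.End.mul_apply, inv_inv]
      set P : Matrix (Fin n) (Fin n) F := (A C : Matrix (Fin n) (Fin n) F)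
      show ρ (levi (A C)⁻¹) (f (fun p => (P * toM m * Pᵀ) p.1 p.2) v) = _
      erw [hχ (fun p => (P * toM m * Pᵀ) p.1 p.2)]
      rw [map_smul]
      congr 1
      rw [hχB, psiChar_apply]
      congr 1
      rw [show toM (fun p => (P * toM m * Pᵀ) p.1 p.2) = P * toM m * Pᵀ from rfl, hBs]
      have e : (fun p : κ => C.1 p.1 p.2) ⬝ᵥ m = (C.1ᵀ * toM m).trace := by
        simp only [dotProduct, Matrix.trace, Matrix.diag, Matrix.mul_apply, transpose_apply, toM, of_apply]
        rw [Fintype.sum_prod_type, Finset.sum_comm]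
      rw [e, hA C, transpose_mul, transpose_mul, transpose_transpose, hBs, ← mul_assoc, Matrix.trace_mul_comm,
        ← mul_assoc, ← mul_assoc]
      exact congrArg trace (by simp only [P, mul_assoc]))
  rw [← Nat.card_eq_fintype_card] at hcard
  omega

end CfsgLib.SpWeilDeg
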