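import Cfsg.Agent.Lib.SpWeilDeg.Lower
import Cfsg.Agent.Lib.SLMinDeg.Main
import Mathlib.LinearAlgebra.GeneralLinearGroup.AlgEquiv

set_option autoImplicit false
set_option linter.unusedSectionVars false
set_option linter.style.haveILetI false

/-! The odd Weil representation of `Sp_2n(q)`, `q` odd. -/

namespace CfsgLib.SpWeilDeg

open Matrix Cfsg CfsgLib.KnownSimple.ModulePerm

variable {F : Type*} [Field F] [Fintype F] [DecidableEq F] {n : ℕ}

/-- The Schrödinger operators. -/
noncomputable def weylOp (v : Fin n ⊕ Fin n → F) : Module.End ℂ ((Fin n → F) → ℂ) where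
  toFun f x := chi F ((fun i => v (.inr i)) ⬝ᵥ x + (fun i => v (.inl i)) ⬝ᵥ (fun i => v (.inr i)) / 2) *
    f (x + fun i => v (.inl i))
  map_add' f g := funext fun x => by simp only [Pi.add_apply]; ring
  map_smul' c f := funext fun x => by simp only [Pi.smul_apply, smul_eq_mul, RingHom.id_apply]; ring

theorem weylOp_zero : weylOp (0 : Fin n ⊕ Fin n → F) = 1 := by
  refine LinearMap.ext fun f => funext fun x => ?_
  have h0 : (fun i => (0 : Fin n ⊕ Fin n → F) (Sum.inl i)) = (0 : Fin n → F) := rfl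
  have h1 : (fun i => (0 : Fin n ⊕ Fin n → F) (Sum.inr i)) = (0 : Fin n → F) := rfl
  simp only [weylOp, LinearMap.coe_mk, AddHom.coe_mk, h0, h1, zero_dotProduct, zero_div, add_zero,
    AddChar.map_zero_eq_one, one_mul, Module.End.one_apply]

theorem weylOp_mul (hodd : Odd (Fintype.card F)) (v w : Fin n ⊕ Fin n → F) :
    weylOp v * weylOp w = chi F (-(sympForm n F v w) / 2) • weylOp (v + w) := by
  have h2 : (2 : F) ≠ 0 := two_ne hodd
  refine LinearMap.ext fun f => funext fun x => ?_
  have h0 : (fun i => (v + w) (Sum.inl i)) = (fun i => v (Sum.inl i)) + fun i => w (Sum.inl i) := rfl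
  have h1 : (fun i => (v + w) (Sum.inr i)) = (fun i => v (Sum.inr i)) + fun i => w (Sum.inr i) := rfl
  have hs : sympForm n F v w = (fun i => v (Sum.inr i)) ⬝ᵥ (fun i => w (Sum.inl i)) -
      (fun i => v (Sum.inl i)) ⬝ᵥ (fun i => w (Sum.inr i)) := by
    rw [CfsgLib.Sp.sympForm_eq_sum, Finset.sum_sub_distrib]
    rfl
  simp only [weylOp, Module.End.mul_apply, LinearMap.coe_mk, AddHom.coe_mk, LinearMap.smul_apply,
    Pi.smul_apply, smul_eq_mul, h0, h1, hs]
  rw [← mul_assoc, ← mul_assoc, ← AddChar.map_add_eq_mul, ← AddChar.map_add_eq_mul, add_assoc x]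
  congr 2
  simp only [add_dotProduct, dotProduct_add]
  rw [dotProduct_comm (fun i => w (Sum.inr i)) (fun i => v (Sum.inl i)),
    dotProduct_comm (fun i => w (Sum.inl i)) (fun i => v (Sum.inr i))]
  field_simp
  ring

theorem trace_weylOp (v : Fin n ⊕ Fin n → F) :
    LinearMap.trace ℂ _ (weylOp v) = if v = 0 then (Fintype.card F : ℂ) ^ n else 0 := by
  rw [LinearMap.trace_eq_matrix_trace ℂ (Pi.basisFun ℂ (Fin n → F)), Matrix.trace]
  have hd : ∀ x : Fin n → F, (LinearMap.toMatrix (Pi.basisFun ℂ (Fin n → F)) (Pi.basisFun ℂ (Fin n → F)) (weylOp v)).diag x =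
      if (fun i => v (Sum.inl i)) = 0 then chi F ((fun i => v (.inr i)) ⬝ᵥ x) else 0 := by
    intro x
    rw [Matrix.diag, LinearMap.toMatrix_apply, Pi.basisFun_repr, Pi.basisFun_apply]
    simp only [weylOp, LinearMap.coe_mk, AddHom.coe_mk]
    split_ifs with h
    · rw [h, zero_dotProduct, zero_div, add_zero, add_zero, Pi.single_eq_same, mul_one]
    · rw [Pi.single_eq_of_ne (fun e => h (by simpa using e)), mul_zero]
  rw [Finset.sum_congr rfl fun x _ => hd x]
  by_cases ha : (fun i => v (Sum.inl i)) = 0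
  · simp only [ha, if_true, CfsgLib.SLMinDeg.sum_chi, Fintype.card_fin]
    refine if_congr ⟨fun h => ?_, fun h => ?_⟩ rfl rfl
    · funext i
      rcases i with i | i
      · exact congrFun ha i
      · exact congrFun h i
    · subst h; rfl
  · simp only [ha, if_false, Finset.sum_const_zero]
    rw [if_neg]
    intro h; subst h; exact ha rfl

theorem weylOp_linearIndependent (hodd : Odd (Fintype.card F)) :
    LinearIndependent ℂ (weylOp : (Fin n ⊕ Fin n → F) → Module.End ℂ ((Fin n → F) → ℂ)) := by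
  refine Fintype.linearIndependent_iff.mpr fun c hc w => ?_
  have h := congrArg (fun X => LinearMap.trace ℂ _ (X * weylOp (-w))) hc
  simp only [Finset.sum_mul, map_sum, smul_mul_assoc, weylOp_mul hodd, map_smul, trace_weylOp, smul_eq_mul,
    zero_mul, map_zero] at h
  rw [Finset.sum_eq_single w (fun u _ hu => by
    rw [if_neg (fun e => hu (add_neg_eq_zero.mp e)), mul_zero, mul_zero]) (by simp), if_pos (add_neg_cancel w)] at h
  rcases mul_eq_zero.mp h with h | h
  · exact h
  · exact absurd h (mul_ne_zero (AddChar.val_isUnit _ _).ne_zero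
      (pow_ne_zero _ (Nat.cast_ne_zero.mpr Fintype.card_ne_zero)))

/-- The Schrödinger operators as a basis of all operators. -/
noncomputable def weylBasis (hodd : Odd (Fintype.card F)) :
    Module.Basis (Fin n ⊕ Fin n → F) ℂ (Module.End ℂ ((Fin n → F) → ℂ)) :=
  basisOfLinearIndependentOfCardEqFinrank (weylOp_linearIndependent hodd) (by
    rw [Module.finrank_linearMap, Module.finrank_fintype_fun_eq_card, Fintype.card_fun, Fintype.card_fun,
      Fintype.card_sum, Fintype.card_fin, pow_add])

theorem weylBasis_apply (hodd : Odd (Fintype.card F)) (v : Fin n ⊕ Fin n → F) : weylBasis hodd v = weylOp v := by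
  simp [weylBasis]

/-- An operator commuting with all Schrödinger operators is a scalar. -/
theorem exists_scalar (hodd : Odd (Fintype.card F)) (X : Module.End ℂ ((Fin n → F) → ℂ))
    (hX : ∀ v : Fin n ⊕ Fin n → F, X * weylOp v = weylOp v * X) : ∃ c : ℂ, X = c • 1 := by
  classical
  set b := weylBasis (n := n) hodd with hb
  set c : (Fin n ⊕ Fin n → F) → ℂ := fun v => b.repr X v with hc
  have hsum : X = ∑ v, c v • weylOp v := by
    conv_lhs => rw [← b.sum_repr X]
    simp only [hc, hb, weylBasis_apply]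
  refine ⟨c 0, ?_⟩
  have hzero : ∀ u : Fin n ⊕ Fin n → F, u ≠ 0 → c u = 0 := by
    intro u hu
    obtain ⟨w₁, hw₁⟩ := CfsgLib.Sp.exists_pair_one hu
    obtain ⟨t, ht⟩ := (exists_char F).choose_spec 1 one_ne_zero
    set w := t • w₁ with hw
    have hω : sympForm n F u w = t := by
      rw [hw, ← CfsgLib.Sp.sympBilin_apply, map_smul, CfsgLib.Sp.sympBilin_apply, hw₁, smul_eq_mul, mul_one]
    have h := hX w
    rw [hsum, Finset.sum_mul, Finset.mul_sum] at h
    simp only [smul_mul_assoc, mul_smul_comm, weylOp_mul hodd, smul_smul, add_comm w] at h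
    have h' : ∑ v, (c v * chi F (-(sympForm n F v w) / 2) - c v * chi F (-(sympForm n F w v) / 2)) • weylOp (v + w) = 0 := by
      have hs : ∀ (a b : ℂ) (Z : Module.End ℂ ((Fin n → F) → ℂ)), (a - b) • Z = a • Z - b • Z := fun a b Z => by module
      simp only [hs, Finset.sum_sub_distrib, h, sub_self]
    have hli := Fintype.linearIndependent_iff.mp
      ((weylOp_linearIndependent (n := n) hodd).comp (fun v => v + w) (add_left_injective w)) _ h' u
    rw [← mul_sub, mul_eq_zero] at hli
    refine hli.resolve_right fun h0 => ht ?_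
    rw [CfsgLib.Sp.sympForm_flip u w, hω, sub_eq_zero] at h0
    have h2 : (2 : F) ≠ 0 := two_ne hodd
    show chi F (1 * t) = 1
    rw [one_mul, show t = - -t / 2 - -t / 2 by field_simp; ring, AddChar.map_sub_eq_div, ← h0]
    exact div_self (AddChar.val_isUnit _ _).ne_zero
  conv_lhs => rw [hsum]
  rw [Finset.sum_eq_single (0 : Fin n ⊕ Fin n → F) (fun v _ hv => by rw [hzero v hv, zero_smul]) (by simp),
    weylOp_zero]

/-- `f ↦ f ∘ (-·)` -/
noncomputable def parity : Module.End ℂ ((Fin n → F) → ℂ) where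
  toFun f x := f (-x)
  map_add' _ _ := rfl
  map_smul' _ _ := rfl

theorem parity_sq : (parity : Module.End ℂ ((Fin n → F) → ℂ)) * parity = 1 :=
  LinearMap.ext fun f => funext fun x => by simp [parity]

theorem parity_weylOp (v : Fin n ⊕ Fin n → F) : parity * weylOp v = weylOp (-v) * parity := by
  refine LinearMap.ext fun f => funext fun x => ?_
  have h0 : (fun i => (-v) (Sum.inl i)) = -fun i => v (Sum.inl i) := rfl
  have h1 : (fun i => (-v) (Sum.inr i)) = -fun i => v (Sum.inr i) := rfl
  simp only [weylOp, parity, Module.End.mul_apply, LinearMap.coe_mk, AddHom.coe_mk, h0, h1, neg_dotProduct,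
    dotProduct_neg, neg_neg, neg_add]

/-- The even (`s = 1`) or odd (`s = -1`) functions. -/
noncomputable def part (n : ℕ) (F : Type*) [Field F] [Fintype F] [DecidableEq F] (s : ℂ) :
    Submodule ℂ ((Fin n → F) → ℂ) :=
  LinearMap.ker ((parity : Module.End ℂ ((Fin n → F) → ℂ)) - s • 1)

theorem mem_part {s : ℂ} {f : (Fin n → F) → ℂ} : f ∈ part n F s ↔ parity f = s • f := by
  simp [part, LinearMap.mem_ker, sub_eq_zero]

theorem finrank_parts (hodd : Odd (Fintype.card F)) :
    Module.finrank ℂ (part n F 1) = Module.finrank ℂ (part n F (-1)) + 1 ∧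
      Module.finrank ℂ (part n F 1) + Module.finrank ℂ (part n F (-1)) = Fintype.card F ^ n := by
  classical
  have h2 : (2 : F) ≠ 0 := two_ne hodd
  set P : Module.End ℂ ((Fin n → F) → ℂ) := parity with hP
  have htr : LinearMap.trace ℂ _ P = 1 := by
    rw [LinearMap.trace_eq_matrix_trace ℂ (Pi.basisFun ℂ (Fin n → F)), Matrix.trace,
      Finset.sum_eq_single (0 : Fin n → F)]
    · simp [Matrix.diag, hP, parity]
    · intro x _ hx
      rw [Matrix.diag, LinearMap.toMatrix_apply, Pi.basisFun_repr, Pi.basisFun_apply, hP]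
      show (Pi.single x (1 : ℂ) : (Fin n → F) → ℂ) (-x) = 0
      refine Pi.single_eq_of_ne (fun h => hx (funext fun i => ?_)) _
      have := congrFun h i
      simp only [Pi.neg_apply] at this
      have h' : 2 * x i = 0 := by linear_combination -this
      exact (mul_eq_zero.mp h').resolve_left h2
    · simp
  have hE : ∀ s : ℂ, s * s = 1 → LinearMap.IsProj (part n F s) ((2 : ℂ)⁻¹ • (1 + s • P)) := by
    intro s hs
    refine ⟨fun f => mem_part.mpr ?_, fun f hf => ?_⟩
    · have hPP : P (P f) = f := LinearMap.congr_fun (parity_sq (F := F) (n := n)) f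
      simp only [← hP, LinearMap.smul_apply, LinearMap.add_apply, Module.End.one_apply, map_smul, map_add, hPP,
        smul_add, smul_smul]
      rw [show s * ((2 : ℂ)⁻¹ * s) = 2⁻¹ by rw [mul_left_comm, hs, mul_one], add_comm, mul_comm]
    · have hPf : P f = s • f := mem_part.mp hf
      rw [LinearMap.smul_apply, LinearMap.add_apply, Module.End.one_apply, LinearMap.smul_apply, hPf, smul_smul, hs,
        show f + (1 : ℂ) • f = (2 : ℂ) • f by module, smul_smul]
      norm_num
  have e1 := LinearMap.IsProj.trace (hE 1 (by norm_num))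
  have e2 := LinearMap.IsProj.trace (hE (-1) (by norm_num))
  simp only [map_smul, map_add, LinearMap.trace_one, htr, smul_eq_mul, Module.finrank_fintype_fun_eq_card,
    Fintype.card_fun, Fintype.card_fin, one_mul] at e1 e2
  push_cast at e1 e2
  constructor
  · exact_mod_cast (by linear_combination e2 - e1 :
      ((Module.finrank ℂ (part n F 1) : ℕ) : ℂ) = (Module.finrank ℂ (part n F (-1)) : ℂ) + 1)
  · exact_mod_cast (by linear_combination -e1 - e2 :
      ((Module.finrank ℂ (part n F 1) : ℕ) : ℂ) + (Module.finrank ℂ (part n F (-1)) : ℂ) = (Fintype.card F : ℂ) ^ n)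

theorem finrank_odd (hodd : Odd (Fintype.card F)) :
    Module.finrank ℂ (part n F (-1)) = (Fintype.card F ^ n - 1) / 2 := by
  obtain ⟨h1, h2⟩ := finrank_parts (n := n) hodd
  omega

/-- The operators commuting with the parity. -/
noncomputable def evens (n : ℕ) (F : Type*) [Field F] [Fintype F] [DecidableEq F] :
    Submonoid (Module.End ℂ ((Fin n → F) → ℂ)) :=
  Submonoid.centralizer {(parity : Module.End ℂ ((Fin n → F) → ℂ))}

theorem evens_apply_mem {X : Module.End ℂ ((Fin n → F) → ℂ)} (hX : X ∈ evens n F) (s : ℂ) :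
    ∀ f ∈ part n F s, X f ∈ part n F s := by
  intro f hf
  have h := LinearMap.congr_fun (Submonoid.mem_centralizer_iff.mp hX _ (Set.mem_singleton _)) f
  rw [Module.End.mul_apply, Module.End.mul_apply] at h
  rw [mem_part, h, mem_part.mp hf, map_smul]

/-- Restriction to a parity part. -/
noncomputable def restr (s : ℂ) : evens n F →* Module.End ℂ (part n F s) where
  toFun X := (X : Module.End ℂ ((Fin n → F) → ℂ)).restrict (evens_apply_mem X.2 s)
  map_one' := LinearMap.ext fun _ => Subtype.ext rfl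
  map_mul' _ _ := LinearMap.ext fun _ => Subtype.ext rfl

/-- Implements `g` on the Schrödinger operators. -/
def Implements (g : Matrix.symplecticGroup (Fin n) F) (X : Module.End ℂ ((Fin n → F) → ℂ)) : Prop :=
  ∀ v, X * weylOp v = weylOp (g.1 *ᵥ v) * X

/-- Normalised by the determinants on the two parts. -/
def Good (g : Matrix.symplecticGroup (Fin n) F) (X : Module.End ℂ ((Fin n → F) → ℂ)) : Prop :=
  Implements g X ∧ IsUnit X ∧ ∃ h : X ∈ evens n F,
    LinearMap.det (restr (-1) ⟨X, h⟩) = LinearMap.det (restr 1 ⟨X, h⟩)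

theorem exists_implements (hodd : Odd (Fintype.card F)) (g : Matrix.symplecticGroup (Fin n) F) :
    ∃ T : ((Fin n → F) → ℂ) ≃ₗ[ℂ] ((Fin n → F) → ℂ), Implements g T.toLinearMap := by
  set b := weylBasis (n := n) hodd with hb
  have hbij : Function.Bijective fun v : Fin n ⊕ Fin n → F => g.1 *ᵥ v :=
    Finite.injective_iff_bijective.mp fun v w h => by
      have := congrArg (fun z => (g⁻¹).1 *ᵥ z) h
      have e : (g⁻¹).1 * g.1 = 1 := congrArg Subtype.val (inv_mul_cancel g)
      simpa [mulVec_mulVec, e] using this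
  let Φ := b.equiv b (Equiv.ofBijective _ hbij)
  have hΦ : ∀ v, Φ (weylOp v) = weylOp (g.1 *ᵥ v) := fun v => by
    rw [← weylBasis_apply hodd v, Module.Basis.equiv_apply, Equiv.ofBijective_apply, weylBasis_apply]
  have hmul : ∀ x y, Φ (x * y) = Φ x * Φ y := by
    intro x y
    have hL : (LinearMap.mul ℂ _).compr₂ Φ.toLinearMap =
        (LinearMap.mul ℂ (Module.End ℂ ((Fin n → F) → ℂ))).compl₁₂ Φ.toLinearMap Φ.toLinearMap := by
      refine b.ext fun v => b.ext fun w => ?_
      simp only [LinearMap.compr₂_apply, LinearMap.mul_apply', LinearMap.compl₁₂_apply, LinearEquiv.coe_coe, hb,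
        weylBasis_apply, weylOp_mul hodd, map_smul, hΦ, mulVec_add, CfsgLib.Sp.sympForm_mulVec]
    exact LinearMap.congr_fun₂ hL x y
  have hone : Φ 1 = 1 := by rw [← weylOp_zero (F := F) (n := n), hΦ, mulVec_zero]
  obtain ⟨T, hT⟩ := (AlgEquiv.ofLinearEquiv Φ hone hmul).eq_linearEquivConjAlgEquiv
  refine ⟨T, fun v => ?_⟩
  have h := DFunLike.congr_fun hT (weylOp v)
  rw [AlgEquiv.ofLinearEquiv_apply, hΦ, LinearEquiv.conjAlgEquiv_apply] at h
  rw [h]
  refine LinearMap.ext fun f => ?_
  simp

theorem isUnit_restr {s : ℂ} {X : Module.End ℂ ((Fin n → F) → ℂ)} (hu : IsUnit X) (h : X ∈ evens n F) :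
    LinearMap.det (restr s ⟨X, h⟩) ≠ 0 := by
  intro h0
  have hne := LinearMap.bot_lt_ker_of_det_eq_zero h0
  obtain ⟨f, hf, hf0⟩ := (Submodule.ne_bot_iff _).mp hne.ne'
  refine hf0 (Subtype.ext ?_)
  have : (X : Module.End ℂ ((Fin n → F) → ℂ)) f.1 = 0 := congrArg Subtype.val (LinearMap.mem_ker.mp hf)
  obtain ⟨u, rfl⟩ := hu
  have := congrArg (u⁻¹).1 this
  rw [map_zero, ← Module.End.mul_apply, Units.inv_mul, Module.End.one_apply] at this
  exact this

theorem restr_smul (s c : ℂ) {X : Module.End ℂ ((Fin n → F) → ℂ)} (h : X ∈ evens n F) (h' : c • X ∈ evens n F) :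
    restr s ⟨c • X, h'⟩ = c • restr s ⟨X, h⟩ :=
  LinearMap.ext fun _ => Subtype.ext rfl

theorem smul_mem_evens (c : ℂ) {X : Module.End ℂ ((Fin n → F) → ℂ)} (h : X ∈ evens n F) : c • X ∈ evens n F := by
  rw [evens, Submonoid.mem_centralizer_iff] at h ⊢
  intro y hy
  rw [mul_smul_comm, smul_mul_assoc, h y hy]

theorem exists_good (hodd : Odd (Fintype.card F)) (g : Matrix.symplecticGroup (Fin n) F) :
    ∃ X, Good g X := by
  obtain ⟨T, hT⟩ := exists_implements hodd g
  set X : Module.End ℂ ((Fin n → F) → ℂ) := T.toLinearMap with hX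
  set Y : Module.End ℂ ((Fin n → F) → ℂ) := T.symm.toLinearMap with hY
  have hYX : Y * X = 1 := LinearMap.ext fun f => T.symm_apply_apply f
  have hXY : X * Y = 1 := LinearMap.ext fun f => T.apply_symm_apply f
  have hXu : IsUnit X := ⟨⟨X, Y, hXY, hYX⟩, rfl⟩
  set P : Module.End ℂ ((Fin n → F) → ℂ) := parity with hP
  have hYimp : ∀ v, Y * weylOp (g.1 *ᵥ v) = weylOp v * Y := fun v => by
    calc Y * weylOp (g.1 *ᵥ v) = Y * (weylOp (g.1 *ᵥ v) * X) * Y := by rw [mul_assoc, mul_assoc, hXY, mul_one]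
      _ = Y * (X * weylOp v) * Y := by rw [hT v]
      _ = weylOp v * Y := by rw [← mul_assoc, hYX, one_mul]
  have hneg : ∀ v : Fin n ⊕ Fin n → F, P * weylOp v = weylOp (-v) * P := parity_weylOp
  obtain ⟨c, hc⟩ := exists_scalar hodd (Y * (P * X * P)) (fun v => by
    rw [mul_assoc Y, mul_assoc, mul_assoc, hneg, ← mul_assoc X, hT, mul_assoc, ← mul_assoc P, hneg,
      ← mulVec_neg, neg_neg, ← mul_assoc Y, ← mul_assoc Y, hYimp]
    simp only [mul_assoc])
  have hPX : P * X * P = c • X := by
    have := congrArg (X * ·) hc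
    rwa [← mul_assoc, hXY, one_mul, mul_smul_comm, mul_one] at this
  have hX0 : X ≠ 0 := fun h0 => by rw [h0, zero_mul] at hXY; exact zero_ne_one hXY
  have hcc : c * c = 1 := by
    have h1 : P * (P * X * P) * P = (c * c) • X := by
      rw [hPX, mul_smul_comm, smul_mul_assoc, hPX, smul_smul]
    rw [← mul_assoc P, ← mul_assoc P, parity_sq, one_mul, mul_assoc, parity_sq, mul_one] at h1
    have h2 : (c * c) • X = (1 : ℂ) • X := by rw [one_smul, ← h1]
    exact smul_left_injective ℂ hX0 h2
  have hc1 : c = 1 := by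
    rcases mul_self_eq_one_iff.mp hcc with h | h
    · exact h
    exfalso
    have hmem : ∀ f ∈ part n F 1, X f ∈ part n F (-1) := by
      intro f hf
      rw [mem_part, ← hP]
      have := LinearMap.congr_fun hPX f
      rw [Module.End.mul_apply, Module.End.mul_apply, show P f = f by rw [hP, mem_part.mp hf, one_smul], h] at this
      simpa using this
    have hle := LinearMap.finrank_le_finrank_of_injective (f := X.restrict hmem) (fun f f' hff => Subtype.ext (by
      have := congrArg (fun z : part n F (-1) => Y z.1) hff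
      simpa [← Module.End.mul_apply, hYX] using this))
    have := (finrank_parts (n := n) hodd).1
    omega
  have hXe : X ∈ evens n F := by
    rw [evens, Submonoid.mem_centralizer_iff]
    intro y hy
    rw [Set.mem_singleton_iff.mp hy, ← hP]
    calc P * X = P * X * P * P := by rw [mul_assoc (P * X), parity_sq, mul_one]
      _ = X * P := by rw [hPX, hc1, one_smul]
  set a := LinearMap.det (restr (-1) ⟨X, hXe⟩) / LinearMap.det (restr 1 ⟨X, hXe⟩) with ha
  have ha0 : a ≠ 0 := div_ne_zero (isUnit_restr hXu hXe) (isUnit_restr hXu hXe)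
  refine ⟨a • X, fun v => by rw [smul_mul_assoc, hT v, mul_smul_comm],
    ⟨⟨a • X, a⁻¹ • Y, by rw [smul_mul_smul_comm, hXY, mul_inv_cancel₀ ha0, one_smul],
      by rw [smul_mul_smul_comm, hYX, inv_mul_cancel₀ ha0, one_smul]⟩, rfl⟩, smul_mem_evens a hXe, ?_⟩
  rw [restr_smul (-1) a hXe, restr_smul 1 a hXe, LinearMap.det_smul, LinearMap.det_smul,
    (finrank_parts (n := n) hodd).1, pow_succ, mul_assoc]
  congr 1
  rw [ha, div_mul_cancel₀ _ (isUnit_restr hXu hXe)]

theorem good_unique (hodd : Odd (Fintype.card F)) {g : Matrix.symplecticGroup (Fin n) F}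
    {X X' : Module.End ℂ ((Fin n → F) → ℂ)} (hX : Good g X) (hX' : Good g X') : X = X' := by
  obtain ⟨hi, hu, he, hd⟩ := hX
  obtain ⟨hi', hu', he', hd'⟩ := hX'
  obtain ⟨u, rfl⟩ := hu
  set Y : Module.End ℂ ((Fin n → F) → ℂ) := ((u⁻¹ : (Module.End ℂ ((Fin n → F) → ℂ))ˣ) : Module.End ℂ ((Fin n → F) → ℂ))
  obtain ⟨c, hc⟩ := exists_scalar hodd (Y * X') (fun v => by
    have h1 : Y * weylOp (g.1 *ᵥ v) = weylOp v * Y := by
      calc Y * weylOp (g.1 *ᵥ v) = Y * (weylOp (g.1 *ᵥ v) * (u : Module.End ℂ _)) * Y := by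
            rw [mul_assoc, mul_assoc]; simp [Y]
        _ = Y * ((u : Module.End ℂ _) * weylOp v) * Y := by rw [hi v]
        _ = weylOp v * Y := by simp [Y]
    rw [mul_assoc, hi' v, ← mul_assoc, h1, mul_assoc])
  have hX'c : X' = c • (u : Module.End ℂ ((Fin n → F) → ℂ)) := by
    have := congrArg ((u : Module.End ℂ ((Fin n → F) → ℂ)) * ·) hc
    simpa [Y, ← mul_assoc] using this
  subst hX'c
  have hd'' : c ^ Module.finrank ℂ (part n F (-1)) * LinearMap.det (restr (-1) ⟨((u : (Module.End ℂ ((Fin n → F) → ℂ))ˣ) : Module.End ℂ ((Fin n → F) → ℂ)), he⟩) =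
      c ^ Module.finrank ℂ (part n F 1) * LinearMap.det (restr 1 ⟨((u : (Module.End ℂ ((Fin n → F) → ℂ))ˣ) : Module.End ℂ ((Fin n → F) → ℂ)), he⟩) := by
    rw [← LinearMap.det_smul, ← LinearMap.det_smul, ← restr_smul, ← restr_smul]
    exact hd'
  rw [(finrank_parts (n := n) hodd).1, hd, pow_succ] at hd''
  have hc0 : c ≠ 0 := by
    intro h0; subst h0
    rw [zero_smul] at hu'
    exact not_isUnit_zero hu'
  have h3 := mul_right_cancel₀ (isUnit_restr u.isUnit he) hd''
  have h4 : c = 1 := mul_left_cancel₀ (pow_ne_zero (Module.finrank ℂ (part n F (-1))) hc0)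
    (h3.symm.trans (mul_one _).symm)
  rw [h4, one_smul]

/-- The Weil representation on all functions. -/
noncomputable def weilOp (hodd : Odd (Fintype.card F)) :
    Matrix.symplecticGroup (Fin n) F →* evens n F where
  toFun g := ⟨(exists_good hodd g).choose, (exists_good hodd g).choose_spec.2.2.1⟩
  map_one' := Subtype.ext (good_unique hodd (exists_good hodd 1).choose_spec
    ⟨fun v => by simp, isUnit_one, Submonoid.one_mem _, by
      show LinearMap.det (restr (-1) 1) = LinearMap.det (restr 1 1)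
      rw [map_one, map_one, map_one, map_one]⟩)
  map_mul' g h := by
    obtain ⟨hi, hu, he, hd⟩ := (exists_good hodd g).choose_spec
    obtain ⟨hi', hu', he', hd'⟩ := (exists_good hodd h).choose_spec
    refine Subtype.ext (good_unique hodd (exists_good hodd (g * h)).choose_spec ?_)
    refine ⟨fun v => ?_, hu.mul hu', Submonoid.mul_mem _ he he', ?_⟩
    · show _ * _ * weylOp v = weylOp ((g * h).1 *ᵥ v) * _
      rw [mul_assoc, hi' v, ← mul_assoc, hi, mul_assoc, mulVec_mulVec]
      rfl
    · show LinearMap.det (restr (-1) (⟨_, he⟩ * ⟨_, he'⟩)) = LinearMap.det (restr 1 (⟨_, he⟩ * ⟨_, he'⟩))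
      rw [map_mul, map_mul, map_mul, map_mul, hd, hd']

theorem weilOp_implements (hodd : Odd (Fintype.card F)) (g : Matrix.symplecticGroup (Fin n) F) :
    Implements g (weilOp hodd g : Module.End ℂ ((Fin n → F) → ℂ)) :=
  (exists_good hodd g).choose_spec.1

/-- The odd Weil representation. -/
noncomputable def weilOdd (hodd : Odd (Fintype.card F)) :
    Representation ℂ (Matrix.symplecticGroup (Fin n) F) (part n F (-1)) :=
  (restr (-1)).comp (weilOp hodd)

theorem weilOdd_nontrivial (hn : 2 ≤ n) (hodd : Odd (Fintype.card F)) :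
    ∃ g, weilOdd (n := n) hodd g ≠ 1 := by
  classical
  by_contra hcon
  push Not at hcon
  have h2 : (2 : F) ≠ 0 := two_ne hodd
  obtain ⟨t, ht⟩ := (exists_char F).choose_spec 1 one_ne_zero
  rw [one_mul] at ht
  let i₀ : Fin n := ⟨0, by omega⟩
  let i₁ : Fin n := ⟨1, by omega⟩
  have h01 : i₀ ≠ i₁ := by simp [i₀, i₁]
  set x : Fin n → F := Pi.single i₀ 1 with hx
  set f : (Fin n → F) → ℂ := Pi.single x 1 - Pi.single (-x) 1 with hf
  have hxne : x ≠ -x := fun h => by
    have := congrFun h i₀
    simp only [hx, Pi.single_eq_same, Pi.neg_apply] at this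
    exact h2 (by linear_combination this)
  have hfo : f ∈ part n F (-1) := by
    rw [mem_part]
    funext y
    show f (-y) = ((-1 : ℂ) • f) y
    simp only [hf, Pi.sub_apply, Pi.smul_apply, Pi.single_apply, smul_eq_mul, neg_eq_iff_eq_neg, neg_neg]
    ring
  have key : ∀ (g : Matrix.symplecticGroup (Fin n) F) (v : Fin n ⊕ Fin n → F),
      weylOp v f x - weylOp v f (-x) = weylOp (g.1 *ᵥ v) f x - weylOp (g.1 *ᵥ v) f (-x) := by
    intro g v
    set N : Module.End ℂ ((Fin n → F) → ℂ) := (weilOp hodd g : Module.End ℂ ((Fin n → F) → ℂ)) with hN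
    have hfix : ∀ h ∈ part n F (-1), N h = h := fun h hh =>
      congrArg Subtype.val (LinearMap.congr_fun (hcon g) ⟨h, hh⟩)
    have hcomm : parity * N = N * parity :=
      Submonoid.mem_centralizer_iff.mp (weilOp hodd g).2 _ (Set.mem_singleton _)
    set o := weylOp v f - parity (weylOp v f) with ho
    have hoo : o ∈ part n F (-1) := by
      rw [mem_part, ho, map_sub]
      have : parity (parity (weylOp v f)) = weylOp v f := by
        rw [← Module.End.mul_apply, parity_sq]; rfl
      rw [this]; module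
    have e := hfix o hoo
    rw [ho, map_sub] at e
    have e2 : N (parity (weylOp v f)) = parity (N (weylOp v f)) := (LinearMap.congr_fun hcomm _).symm
    have e3 : N (weylOp v f) = weylOp (g.1 *ᵥ v) (N f) := LinearMap.congr_fun (weilOp_implements hodd g v) f
    rw [e2, e3, hfix f hfo] at e
    exact (congrFun e x).symm
  have val : ∀ b : Fin n → F, weylOp (Sum.elim 0 b) f x - weylOp (Sum.elim 0 b) f (-x) =
      chi F (b ⬝ᵥ x) + chi F (-(b ⬝ᵥ x)) := by
    intro b
    have h0 : (fun i => Sum.elim (0 : Fin n → F) b (Sum.inl i)) = 0 := rfl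
    have h1 : (fun i => Sum.elim (0 : Fin n → F) b (Sum.inr i)) = b := rfl
    simp only [weylOp, LinearMap.coe_mk, AddHom.coe_mk, h0, h1, zero_dotProduct, zero_div, add_zero,
      dotProduct_neg, hf, Pi.sub_apply, Pi.single_eq_same, Pi.single_eq_of_ne hxne, Pi.single_eq_of_ne hxne.symm]
    ring
  have hb0 : (Sum.elim 0 (Pi.single i₀ t) : Fin n ⊕ Fin n → F) ≠ 0 := fun h => ht (by
    have := congrFun h (Sum.inr i₀)
    simp at this
    rw [this]; exact AddChar.map_zero_eq_one _)
  have hb1 : (Sum.elim 0 (Pi.single i₁ 1) : Fin n ⊕ Fin n → F) ≠ 0 := fun h => by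
    simpa using congrFun h (Sum.inr i₁)
  obtain ⟨g, hg⟩ := CfsgLib.Sp.transitive_ne_zero_matrix _ _ hb0 hb1
  have h := key g (Sum.elim 0 (Pi.single i₀ t))
  rw [hg, val, val, hx, single_dotProduct, single_dotProduct, Pi.single_eq_same, mul_one,
    Pi.single_eq_of_ne h01.symm, mul_zero, neg_zero, AddChar.map_zero_eq_one, AddChar.map_neg_eq_inv] at h
  refine ht ?_
  have hz : chi F t ≠ 0 := (AddChar.val_isUnit _ _).ne_zero
  field_simp at h
  have : (chi F t - 1) ^ 2 = 0 := by linear_combination h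
  exact sub_eq_zero.mp (pow_eq_zero_iff (two_ne_zero) |>.mp this)

theorem weilOdd_irreducible (hn : 2 ≤ n) (hodd : Odd (Fintype.card F)) :
    (weilOdd (n := n) hodd).IsIrreducible := by
  obtain ⟨g, hg⟩ := weilOdd_nontrivial hn hodd
  rcases CfsgLib.Characters.rep_trichotomy (weilOdd (n := n) hodd) with h | h | ⟨U, U', hc, h1, h2⟩
  · exact absurd (LinearMap.ext fun x => Subsingleton.elim _ _) hg
  · exact h
  exfalso
  rw [finrank_odd hodd] at h1 h2
  have hU : ∀ g, U.toRepresentation g = 1 := fun g => by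
    by_contra hh
    have := degree_ge (n := n) (F := F) hn hodd (V := U.toSubmodule) U.toRepresentation ⟨g, hh⟩
    omega
  have hU' : ∀ g, U'.toRepresentation g = 1 := fun g => by
    by_contra hh
    have := degree_ge (n := n) (F := F) hn hodd (V := U'.toSubmodule) U'.toRepresentation ⟨g, hh⟩
    omega
  refine hg (LinearMap.ext fun x => ?_)
  have hx : x ∈ U.toSubmodule ⊔ U'.toSubmodule := by rw [hc.sup_eq_top]; trivial
  obtain ⟨a, ha, b, hb, rfl⟩ := Submodule.mem_sup.mp hx
  have e1 : weilOdd (n := n) hodd g a = a := congrArg Subtype.val (LinearMap.congr_fun (hU g) ⟨a, ha⟩)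
  have e2 : weilOdd (n := n) hodd g b = b := congrArg Subtype.val (LinearMap.congr_fun (hU' g) ⟨b, hb⟩)
  rw [map_add, e1, e2]; rfl

end CfsgLib.SpWeilDeg
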